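import Cfsg.Agent.R2.T1.N6C.Num
import Cfsg.Agent.R2.T1.Inf.LCnt

/-!
# S5929, `n = 6`, `p = 3`, box C2: the orbit of an adapted subspace (helper14)

* `orbit_le` : `|G| ≤ |H| |T|` if a spanning family of an `H`-stable subspace belongs to the stable set `T`;
* `no_adapt` : an `H`-stable subspace spanned by `e, g, f`, `e ≠ 0`, `DD g g = DD e f` does not exist.
-/

set_option autoImplicit false
set_option maxRecDepth 100000

namespace Cfsg.Agent.R2.T1.N6C

open Cfsg Cfsg.Lie Module
open Cfsg.Agent.R2.T1 Cfsg.Agent.R2.PX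
open Cfsg.Agent.H943.E7V.Block (D1 rho)
open Cfsg.Agent.H952.F4 (ev MaxAlt)

universe u
variable {F : Type u} [Field F]

/-- **the orbit of a family spanning an `H`-stable subspace** -/
theorem orbit_le {M : Type*} [AddCommGroup M] [Module F M] [Finite F] [FiniteDimensional F M]
    {H : Subgroup ↥(chevE7.group F)} (hM : IsCoatom H) {ρ : Representation F (Gh F) M} (hρ : Irr ρ)
    {W : Submodule F M} (hW : Stab ρ H W) (h0 : W ≠ ⊥) (h1 : W ≠ ⊤) {ι : Type} [Finite ι] {b : ι → M}
    (hb : W = Submodule.span F (Set.range b)) (T : Set (ι → M)) (hT : ∀ (g : Gh F), ∀ c ∈ T, (fun i => ρ g (c i)) ∈ T)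
    (hbT : b ∈ T) : Nat.card ↥(chevE7.group F) ≤ Nat.card ↥H * Nat.card ↥T := by
  classical
  have hfinM : Finite M := Module.finite_of_finite F
  have hSt := St_eq hM hρ hW h0 h1
  have : Finite ↥(chevE7.group F) := inferInstance
  have : Finite (Gh F) := inferInstance
  -- the cosets
  have h3 : (H.comap (ad F)).index ≤ Nat.card ↥T := by
    have h4 : ∀ g g' : Gh F, (fun i => ρ g (b i)) = (fun i => ρ g' (b i)) → g⁻¹ * g' ∈ H.comap (ad F) := by
      intro g g' h
      rw [← hSt]
      refine mem_St_of fun w hw => ?_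
      rw [hb] at hw
      induction hw using Submodule.span_induction with
      | mem y hy =>
        obtain ⟨i, rfl⟩ := hy
        have h5 := congrFun h i
        rw [map_mul, Module.End.mul_apply, ← h5, ρ_inv, hb]
        exact Submodule.subset_span ⟨i, rfl⟩
      | zero => rw [map_zero]; exact zero_mem _
      | add y z _ _ hy hz => rw [map_add]; exact add_mem hy hz
      | smul t y _ hy => rw [map_smul]; exact W.smul_mem t hy
    rw [Subgroup.index]
    refine Nat.card_le_card_of_injective (fun c : Gh F ⧸ H.comap (ad F) => (⟨fun i => ρ c.out (b i), hT _ _ hbT⟩ : ↥T)) ?_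
    intro c c' h
    have h5 := h4 _ _ (congrArg Subtype.val h)
    rw [← QuotientGroup.out_eq' c, ← QuotientGroup.out_eq' c']
    exact QuotientGroup.eq.2 h5
  rw [Subgroup.index_comap_of_surjective H ad_surjective] at h3
  calc Nat.card ↥(chevE7.group F) = Nat.card ↥H * H.index := (Subgroup.card_mul_index H).symm
    _ ≤ _ := Nat.mul_le_mul_left _ h3

/-- **no adapted subspace** -/
theorem no_adapt [Finite F] (h2 : (2 : F) ≠ 0) (hq : 3 ≤ Nat.card F) {H : Subgroup ↥(chevE7.group F)} (hM : IsCoatom H)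
    (hc : Nat.card ↥H ≤ 1440) {W : Submodule F (D1 → F)} (hW : Stab (V F) H W) {e g f : D1 → F} (he : e ≠ 0)
    (hs : W = Submodule.span F {e, g, f}) (hD : DD F g g = DD F e f) : False := by
  have hb : W = Submodule.span F (Set.range ![e, g, f]) := by
    rw [hs, Matrix.range_cons, Matrix.range_cons, Matrix.range_cons, Matrix.range_empty, Set.union_empty]
    rfl
  have h0 : W ≠ ⊥ := by
    intro h
    apply he
    have h3 : e ∈ W := by rw [hs]; exact Submodule.subset_span (by simp)
    rwa [h, Submodule.mem_bot] at h3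
  have h1 : W ≠ ⊤ := by
    intro h
    have h3 : finrank F ↥W ≤ 3 := by
      rw [hb]
      exact (finrank_range_le_card (R := F) ![e, g, f]).trans (by rw [Fintype.card_fin])
    rw [h, finrank_top, finrank_V] at h3
    omega
  have h3 := orbit_le hM irrV hW h0 h1 hb (TS F) (by
    intro x c hc
    obtain ⟨hc1, hc2⟩ := hc
    refine ⟨?_, ?_⟩
    · intro h
      apply hc1
      have h4 := congrArg (V F x⁻¹) h
      rwa [Mu.inv_V, map_zero] at h4
    · show DD F (V F x (c 1)) (V F x (c 1)) = DD F (V F x (c 0)) (V F x (c 2))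
      rw [Mu.DD_conj, Mu.DD_conj, hc2]) ⟨he, hD⟩
  have h4 := card_TS (F := F) h2
  have h5 := order_ge3 hq
  set q := Nat.card F with hqd
  have h6 : Nat.card ↥(chevE7.group F) ≤ 1440 * (q ^ 124 + 56 * q ^ 112) := h3.trans (Nat.mul_le_mul hc h4)
  have h7 : q ^ 133 = q ^ 9 * q ^ 124 := by rw [← pow_add]
  have h8 : q ^ 124 = q ^ 12 * q ^ 112 := by rw [← pow_add]
  have h9 : 3 ^ 9 ≤ q ^ 9 := Nat.pow_le_pow_left hq 9
  have h10 : 3 ^ 12 ≤ q ^ 12 := Nat.pow_le_pow_left hq 12
  have h11 : 3 ^ 9 * q ^ 124 ≤ q ^ 133 := by rw [h7]; exact Nat.mul_le_mul_right _ h9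
  have h12 : 3 ^ 12 * q ^ 112 ≤ q ^ 124 := by rw [h8]; exact Nat.mul_le_mul_right _ h10
  have h13 : 0 < q ^ 112 := Nat.pow_pos (by omega)
  norm_num at h11 h12
  omega

end Cfsg.Agent.R2.T1.N6C
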