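import Cfsg.Agent.R2.T1.Mu.Pure
import Cfsg.Agent.R2.PX.Tr3

/-!
# S5929, `n = 6`, `p = 3`, box C2: the kernel of `DD e` (helper14)

* `ker_small` : a vector which is not pure is conjugate to a vector `e` such that an element of `{f | DD e f = 0}` is
  determined by 12 coordinates;
* `ker_pure` : the same with 28 coordinates for a pure vector.
-/

set_option autoImplicit false
set_option maxRecDepth 100000

namespace Cfsg.Agent.R2.T1.N6C

open Cfsg Cfsg.Lie Matrix
open Cfsg.Agent.ChevalleyStructure.RootVec
open Cfsg.Agent.ChevalleyStructure.StEmbed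
open Cfsg.Agent.R2.T1 Cfsg.Agent.R2.PX
open Cfsg.Agent.H943.E7V.Block (D1 rho)

universe u
variable {F : Type u} [Field F]

/-! ### a generic linear order on the weights -/

/-- base 7 expansion -/
def odl (l : List ℤ) : ℤ := l.foldr (fun x s => x + 7 * s) 0

theorem odl_zip : ∀ {l m : List ℤ}, l.length = m.length → odl (List.zipWith (fun x y => x + y) l m) = odl l + odl m
  | [], [], _ => by simp [odl]
  | a :: l, [], h => by simp at h
  | [], b :: m, h => by simp at h
  | a :: l, b :: m, h => by
    have ih := odl_zip (l := l) (m := m) (by simpa using h)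
    unfold odl at ih ⊢
    rw [List.zipWith_cons_cons, List.foldr_cons, List.foldr_cons, List.foldr_cons, ih]
    ring

/-- a generic linear functional on the weights -/
def od (a : D1) : ℤ := odl (Comb.ent (nn a)).2.1

theorem CT_len8 : Comb.CT.all (fun e => Nat.beq e.2.1.length 8) = true := by decide +kernel

theorem ent_len (a : D1) : (Comb.ent (nn a)).2.1.length = 8 :=
  Nat.eq_of_beq_eq_true (List.all_eq_true.1 CT_len8 _ (Comb.ent_nn a).1)

theorem od_add {r : ℕ} (hr : r < 126) {a b : D1} {c : ℤ} (h : mv r (nn b) = some (nn a, c)) :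
    od a = od b + odl ((List.range 8).map fun i => rt chevE8 (ι78 r) i) := by
  unfold od
  rw [(Comb.row_spec hr h).1, odl_zip]
  rw [ent_len, List.length_map, List.length_range]

theorem CT_nodup : (Comb.CT.map fun e => odl e.2.1).Nodup := by decide +kernel

theorem od_inj {a b : D1} (h : od a = od b) : a = b := by
  have h1 := List.inj_on_of_nodup_map CT_nodup (Comb.ent_nn a).1 (Comb.ent_nn b).1 h
  apply nn_inj
  rw [← (Comb.ent_nn a).2, ← (Comb.ent_nn b).2, h1]

theorem CT_op : Comb.CT.all (fun e => odl e.2.1 + odl (Comb.ent e.2.2.2.1).2.1 == odl [2, 3, 4, 6, 5, 4, 3, 2]) = true := by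
  decide +kernel

theorem od_op (a : D1) : od a + od (op a) = odl [2, 3, 4, 6, 5, 4, 3, 2] := by
  have h1 := beq_iff_eq.1 (List.all_eq_true.1 CT_op _ (Comb.ent_nn a).1)
  rw [Comb.op_mem (Comb.ent_nn a).1 (Comb.ent_nn a).2] at h1
  exact h1

/-! ### numbers of weights -/

theorem card_le_of (P : D1 → Prop) [DecidablePred P] (l : List (ℕ × List ℤ × List ℤ × ℕ × List ℕ))
    (h : ∀ a, P a → Comb.ent (nn a) ∈ l) : (Finset.univ.filter P).card ≤ l.length := by
  classical
  calc (Finset.univ.filter P).card = ((Finset.univ.filter P).image fun a => Comb.ent (nn a)).card := by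
        rw [Finset.card_image_of_injective]
        intro a b hab
        apply nn_inj
        rw [← (Comb.ent_nn a).2, ← (Comb.ent_nn b).2]
        exact congrArg Prod.fst hab
    _ ≤ l.toFinset.card := by
        apply Finset.card_le_card
        intro x hx
        obtain ⟨a, ha, rfl⟩ := Finset.mem_image.1 hx
        rw [List.mem_toFinset]
        exact h a (Finset.mem_filter.1 ha).2
    _ ≤ l.length := List.toFinset_card_le l

theorem chkN28 : Comb.CT.all (fun m => Nat.ble (Comb.CT.filter fun n => Comb.vv n m == 1 || Comb.vv n m == 3).length 28) = true := by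
  decide +kernel

theorem card28 (m : D1) : (Finset.univ.filter fun n : D1 => p2 n m = 1 ∨ p2 n m = 3).card ≤ 28 := by
  refine (card_le_of _ (Comb.CT.filter fun n => Comb.vv n (Comb.ent (nn m)) == 1 || Comb.vv n (Comb.ent (nn m)) == 3)
    fun a ha => ?_).trans (Nat.le_of_ble_eq_true (List.all_eq_true.1 chkN28 _ (Comb.ent_nn m).1))
  rw [List.mem_filter, Bool.or_eq_true, beq_iff_eq, beq_iff_eq, ← Comb.p2_vv]
  exact ⟨(Comb.ent_nn a).1, ha⟩

theorem chkN11 : Comb.CT.all (fun m => Comb.CT.all fun b => !(Comb.vv b m == -1) ||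
    Nat.ble (Comb.CT.filter fun n => Comb.vv n m == 1 && !(Comb.vv n b == -1)).length 11) = true := by
  decide +kernel

theorem card11 {m b : D1} (hb : p2 b m = -1) : (Finset.univ.filter fun n : D1 => p2 n m = 1 ∧ ¬ p2 n b = -1).card ≤ 11 := by
  have h1 := List.all_eq_true.1 (List.all_eq_true.1 chkN11 _ (Comb.ent_nn m).1) _ (Comb.ent_nn b).1
  rw [← Comb.p2_vv, hb, beq_self_eq_true, Bool.not_true, Bool.false_or] at h1
  refine (card_le_of _ (Comb.CT.filter fun n => Comb.vv n (Comb.ent (nn m)) == 1 && !(Comb.vv n (Comb.ent (nn b)) == -1))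
    fun a ha => ?_).trans (Nat.le_of_ble_eq_true h1)
  rw [List.mem_filter, Bool.and_eq_true, beq_iff_eq, Bool.not_eq_true', beq_eq_false_iff_ne, ← Comb.p2_vv, ← Comb.p2_vv]
  exact ⟨(Comb.ent_nn a).1, ha⟩

/-! ### the equations -/

/-- the equation of a root -/
theorem sf_zero (h2 : (2 : F) ≠ 0) {e f : D1 → F} (h : DD F e f = 0) {r : ℕ} (hr : r < 126) {a b : D1} {c : ℤ}
    (hm : mv r (nn b) = some (nn a, c)) : sf F (NM F r *ᵥ e) f = 0 := by
  obtain ⟨a', c', h3, h4, -, h5⟩ := (mv_spec hr b).resolve_left (by rw [hm]; simp)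
  have hr' : 125 - r < 126 := by omega
  have e1 := Tr.DD_entry (F := F) hr' h5 e f
  rw [h, Matrix.zero_apply, sub_sub_r hr] at e1
  exact (mul_eq_zero.1 ((mul_eq_zero.1 e1.symm).resolve_left (neg_ne_zero.2 h2))).resolve_right (cast_ne h4)

/-- the equation of a root with only one non-zero term -/
theorem one_term {e f : D1 → F} {r : ℕ} (hr : r < 126) {a b : D1} {c : ℤ} (hm : mv r (nn b) = some (nn a, c)) (hc : c * c = 1)
    (h : sf F (NM F r *ᵥ e) f = 0) (hb : e b ≠ 0)
    (ho : ∀ (a' b' : D1) (c' : ℤ), mv r (nn b') = some (nn a', c') → e b' ≠ 0 → b' ≠ b → f (op a') = 0) : f (op a) = 0 := by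
  rw [sf_sum, Finset.sum_eq_single a] at h
  · rw [NM_mulVec hr hm] at h
    exact (mul_eq_zero.1 ((mul_eq_zero.1 h).resolve_left (mul_ne_zero (cast_ne hc) hb))).resolve_left (cast_ne (ep_sq a))
  · intro a' _ ha
    by_contra hne
    obtain ⟨b', c', h4, h5⟩ := NM_mulVec_ne (left_ne_zero_of_mul hne)
    have h6 : b' ≠ b := by
      rintro rfl
      rw [hm, Option.some.injEq, Prod.mk.injEq] at h4
      exact ha (nn_inj h4.1).symm
    apply hne
    rw [ho a' b' c' h4 h5 h6, mul_zero, mul_zero]
  · intro h1
    exact absurd (Finset.mem_univ _) h1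

/-- degrees -/
theorem pr_of {r : ℕ} (hr : r < 126) {a b m : D1} {c : ℤ} (h : mv r (nn b) = some (nn a, c)) {a' b' : D1} {c' : ℤ}
    (h' : mv r (nn b') = some (nn a', c')) : p2 a' m - p2 b' m = p2 a m - p2 b m := by
  have h1 := p2_add hr h m
  have h3 := p2_add hr h' m
  omega

/-- the coordinates at the weights of degree 1 and at `m` suffice -/
theorem ker_deg (h2 : (2 : F) ≠ 0) {m : D1} {e f : D1 → F} (hem : e m ≠ 0) (hn : ∀ n, p2 n m = 1 → e n = 0)
    (h : DD F e f = 0) (hfm : f m = 0) (hf1 : ∀ n, p2 n m = 1 → f n = 0) : f = 0 := by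
  have hf2 : ∀ n, p2 n m = -1 → f n = 0 := by
    intro n hn'
    obtain ⟨r, hr, c, hm, hc⟩ := exists_mv (a := op n) (b := m) (by rw [p2_op, hn']; rfl)
    have h3 := one_term hr hm hc (sf_zero h2 h hr hm) hem (fun a' b' c' h4 h5 h6 => ?_)
    · rwa [op_op] at h3
    · have h7 := pr_of hr (m := m) hm h4
      rw [p2_op, hn', p2_self] at h7
      rcases p2_cases b' m with h8 | h8 | h8 | h8
      · exact absurd (p2_eq_three.1 h8) h6
      · exact absurd (hn b' h8) h5
      · have h9 : p2 m a' = -3 := by rw [p2_comm]; omega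
        rw [p2_eq_neg_three.1 h9, op_op]
        exact hfm
      · rcases p2_cases a' m with h9 | h9 | h9 | h9 <;> omega
  have hf3 : f (op m) = 0 := by
    obtain ⟨c, hc⟩ := Mu.exists_nb m
    have e1 := Tr.DD_diag (F := F) e f c
    rw [h, Matrix.zero_apply, Finset.sum_eq_single m] at e1
    · rw [hc] at e1
      push_cast at e1
      have h6 : (e m * (ep m : F)) * f (op m) = 0 := by linear_combination e1
      exact (mul_eq_zero.1 h6).resolve_left (mul_ne_zero hem (cast_ne (ep_sq m)))
    · intro a _ ha
      rcases p2_cases a m with h8 | h8 | h8 | h8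
      · exact absurd (p2_eq_three.1 h8) ha
      · rw [hn a h8]; ring
      · rw [hf1 (op a) (by rw [p2_op, h8]; rfl)]; ring
      · rw [p2_comm] at h8
        rw [p2_eq_neg_three.1 h8, op_op, hfm]; ring
    · intro h1
      exact absurd (Finset.mem_univ _) h1
  funext n
  rw [Pi.zero_apply]
  rcases p2_cases n m with h8 | h8 | h8 | h8
  · rw [p2_eq_three.1 h8]; exact hfm
  · exact hf1 n h8
  · exact hf2 n h8
  · rw [p2_comm] at h8
    rw [p2_eq_neg_three.1 h8]; exact hf3

/-- **the kernel of `DD e`, `e` not pure** -/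
theorem ker_aux (h2 : (2 : F) ≠ 0) {m : D1} {e : D1 → F} (hem : e m ≠ 0) (hn : ∀ n, p2 n m = 1 → e n = 0) (hp : ¬ Pure F e) :
    ∃ S : Finset D1, S.card ≤ 12 ∧ ∀ f, DD F e f = 0 → (∀ n ∈ S, f n = 0) → f = 0 := by
  classical
  by_cases hb : ∃ b, p2 b m = -1 ∧ e b ≠ 0
  · -- the lowest weight
    obtain ⟨b, hbS, hmin⟩ := Finset.exists_min_image (Finset.univ.filter fun b => p2 b m = -1 ∧ e b ≠ 0) od (by
      obtain ⟨b, hb⟩ := hb
      exact ⟨b, Finset.mem_filter.2 ⟨Finset.mem_univ _, hb⟩⟩)
    obtain ⟨-, hb1, hb2⟩ := Finset.mem_filter.1 hbS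
    refine ⟨insert m (Finset.univ.filter fun n : D1 => p2 n m = 1 ∧ ¬ p2 n b = -1), ?_, fun f hf hS => ?_⟩
    · exact (Finset.card_insert_le _ _).trans (Nat.succ_le_succ (card11 hb1))
    · have hfm : f m = 0 := hS m (Finset.mem_insert_self _ _)
      refine ker_deg h2 hem hn hf hfm ?_
      have key : ∀ (k : ℕ) (n : D1), od n ≤ k + odl [0, 0, 0, 0, 0, 0, 0, 0] → p2 n m = 1 → f n = 0 := by
        intro k
        induction k with
        | zero =>
          intro n h0 h1
          exfalso
          have h3 : Comb.CT.all (fun e => decide (0 < odl e.2.1)) = true := by decide +kernel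
          have h4 := of_decide_eq_true (List.all_eq_true.1 h3 _ (Comb.ent_nn n).1)
          have h5 : odl [0, 0, 0, 0, 0, 0, 0, 0] = 0 := by decide
          rw [h5] at h0
          have h6 : 0 < od n := h4
          push_cast at h0
          omega
        | succ k ih =>
          intro n h0 h1
          by_cases h3 : p2 n b = -1
          swap
          · exact hS n (Finset.mem_insert_of_mem (Finset.mem_filter.2 ⟨Finset.mem_univ _, h1, h3⟩))
          obtain ⟨r, hr, c, hm, hc⟩ := exists_mv (a := op n) (b := b) (by rw [p2_op, h3]; rfl)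
          have h4 := one_term hr hm hc (sf_zero h2 hf hr hm) hb2 (fun a' b' c' h4 h5 h6 => ?_)
          · rwa [op_op] at h4
          · have h7 := pr_of hr (m := m) hm h4
            rw [p2_op, h1, hb1] at h7
            rcases p2_cases b' m with h8 | h8 | h8 | h8
            · have h9 : p2 a' m = 3 := by omega
              have h10 := p2_eq_three.1 h9
              have h11 := p2_of_mv hr h4
              rw [h10, p2_eq_three.1 h8, p2_self] at h11
              omega
            · exact absurd (hn b' h8) h5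
            · have h9 : p2 (op a') m = 1 := by rw [p2_op]; omega
              refine ih _ ?_ h9
              have o1 := od_add hr hm
              have o2 := od_add hr h4
              have o3 := od_op n
              have o4 := od_op a'
              have o5 : od b < od b' := lt_of_le_of_ne (hmin b' (Finset.mem_filter.2 ⟨Finset.mem_univ _, h8, h5⟩))
                fun h => h6 (od_inj h).symm
              push_cast at h0 ⊢
              omega
            · have h9 : p2 a' m = -3 := by omega
              have h11 := p2_of_mv hr h4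
              rw [p2_comm] at h8 h9
              rw [p2_eq_neg_three.1 h8, p2_eq_neg_three.1 h9, p2_self] at h11
              omega
      intro n h1
      refine key (od n).toNat n ?_ h1
      have h5 : odl [0, 0, 0, 0, 0, 0, 0, 0] = 0 := by decide
      rw [h5, add_zero]
      exact Int.self_le_toNat _
  · push Not at hb
    have hop : e (op m) ≠ 0 := by
      intro h0
      apply hp
      have h3 : e = e m • bs F m := by
        funext a
        rw [Pi.smul_apply, smul_eq_mul]
        by_cases ha : a = m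
        · rw [ha, bs_self, mul_one]
        · rw [PX.bs_ne ha, mul_zero]
          rcases p2_cases a m with h8 | h8 | h8 | h8
          · exact absurd (p2_eq_three.1 h8) ha
          · exact hn a h8
          · exact hb a h8
          · rw [p2_comm] at h8
            rw [p2_eq_neg_three.1 h8]
            exact h0
      rw [h3]
      exact Mu.pure_smul (Tr.bs_pure m) _
    refine ⟨{m}, by simp, fun f hf hS => ?_⟩
    have hfm : f m = 0 := hS m (Finset.mem_singleton_self _)
    refine ker_deg h2 hem hn hf hfm fun n h1 => ?_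
    obtain ⟨r, hr, c, hm, hc⟩ := exists_mv (a := op n) (b := op m) (by rw [p2_op, p2_op', h1]; rfl)
    have h4 := one_term hr hm hc (sf_zero h2 hf hr hm) hop (fun a' b' c' h4 h5 h6 => ?_)
    · rwa [op_op] at h4
    · exfalso
      have h7 := pr_of hr (m := m) hm h4
      rw [p2_op, p2_op, h1, p2_self] at h7
      rcases p2_cases b' m with h8 | h8 | h8 | h8
      · rcases p2_cases a' m with h9 | h9 | h9 | h9 <;> omega
      · exact h5 (hn b' h8)
      · exact h5 (hb b' h8)
      · rw [p2_comm] at h8
        exact h6 (p2_eq_neg_three.1 h8)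

/-- normal form for the action of `Gh F` -/
theorem exists_nf {x : D1 → F} (hx : x ≠ 0) (m : D1) : ∃ g : Gh F, V F g x m ≠ 0 ∧ ∀ n, p2 n m = 1 → V F g x n = 0 := by
  classical
  obtain ⟨g, hg⟩ := Tr.exists_coord hx m
  obtain ⟨g', -, h4, h5, -⟩ := Tr.clear ⊤ m hg (Finset.univ.filter fun n => p2 n m = 1)
    (fun n hn => ⟨(Finset.mem_filter.1 hn).2, fun _ _ _ _ _ => Subgroup.mem_top _⟩)
  refine ⟨g' * g, ?_, fun n hn => ?_⟩
  · rw [map_mul, Module.End.mul_apply, h4]
    exact hg
  · rw [map_mul, Module.End.mul_apply]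
    exact h5 n (Finset.mem_filter.2 ⟨Finset.mem_univ _, hn⟩)

end Cfsg.Agent.R2.T1.N6C
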